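import Cfsg.Agent.Lib.LocStruct.QuadPair
import Cfsg.Agent.Lib.GL.SylowSL2
import Cfsg.Agent.Lib.Suzuki.LieModel
import Cfsg.Agent.Lib.Suzuki.Classes

/-!
Ambient-form toolkit, part 12: two properties shared by the root subgroups of `SL₂(q)`, `Sz(q)`
and of dihedral groups of twice odd order.
-/

set_option autoImplicit false
set_option linter.unusedSectionVars false
set_option linter.style.haveILetI false
set_option linter.unusedVariables false

namespace H69

open Subgroup Cfsg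
open scoped commutatorElement Pointwise MatrixGroups

/-- `U` is the only nontrivial elementary abelian normal `p`-subgroup of its normalizer, and every
nontrivial `p'`-element, times a commuting `p`-element, is a product of two conjugates of nontrivial
elements of `U`. -/
structure RK (p : ℕ) {X : Type*} [Group X] (U : Subgroup X) : Prop where
  uniq : ∀ V : Subgroup X, V ≤ 𝐍(U) → 𝐍(U) ≤ 𝐍(V) → IsElementaryAbelian p V → V ≠ ⊥ → V = U
  prod : ∀ h : X, h ≠ 1 → (orderOf h).Coprime p → ∃ u : X, (∃ k : ℕ, u ^ p ^ k = 1) ∧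
    Commute h u ∧ ∃ a b y z : X, y ∈ U ∧ z ∈ U ∧ y ≠ 1 ∧ z ≠ 1 ∧
      h * u = a * y * a⁻¹ * (b * z * b⁻¹)

variable {p : ℕ} {X : Type*} [Group X]

theorem ea_map {X' : Type*} [Group X'] (f : X →* X') {V : Subgroup X}
    (h : IsElementaryAbelian p V) : IsElementaryAbelian p (V.map f) := by
  refine ⟨⟨⟨?_⟩⟩, ?_⟩
  · rintro ⟨_, a, ha, rfl⟩ ⟨_, b, hb, rfl⟩
    refine Subtype.ext ?_
    show f a * f b = f b * f a
    rw [← map_mul, ← map_mul, mem_centralizer_iff_commute.1 (H24.EA.le_centralizer h hb) a ha]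
  · rintro _ ⟨a, ha, rfl⟩
    rw [← map_pow, h.2 a ha, map_one]

theorem RK.map_equiv {X' : Type*} [Group X'] (e : X ≃* X') {U : Subgroup X} (h : RK p U) :
    RK p (U.map e.toMonoidHom) := by
  have hs : ∀ V : Subgroup X', (V.map e.symm.toMonoidHom).map e.toMonoidHom = V := fun V => by
    rw [map_map]
    convert map_id V
    ext x; simp
  have hN : ∀ V : Subgroup X, 𝐍(V.map e.toMonoidHom) = (𝐍(V)).map e.toMonoidHom := fun V =>
    (map_equiv_normalizer_eq V e).symm
  refine ⟨fun V h1 h2 h3 h4 => ?_, fun g hg hc => ?_⟩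
  · rw [← hs V] at h1 h2 h4 ⊢
    rw [hN] at h1 h2
    rw [hN] at h2
    rw [h.uniq _ ((map_le_map_iff_of_injective e.injective).1 h1)
      ((map_le_map_iff_of_injective e.injective).1 h2) (ea_map _ h3)
      fun e' => h4 (by rw [e', Subgroup.map_bot])]
  · obtain ⟨u, ⟨k, hk⟩, hu, a, b, y, z, hy, hz, hy1, hz1, he⟩ := h.prod (e.symm g)
      (fun e' => hg (by simpa using congrArg e e')) (by rwa [MulEquiv.orderOf_eq])
    refine ⟨e u, ⟨k, by rw [← map_pow, hk, map_one]⟩, by simpa using hu.map e, e a, e b, e y, e z,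
      mem_map_of_mem _ hy, mem_map_of_mem _ hz, by simpa using hy1, by simpa using hz1, ?_⟩
    simpa using congrArg e he

theorem RK.cj {U : Subgroup X} (h : RK p U) (g : X) : RK p (U ^ᶜ g) :=
  h.map_equiv (MulAut.conj g)

theorem RK.of_map_equiv {X' : Type*} [Group X'] (e : X ≃* X') {U : Subgroup X}
    (h : RK p (U.map e.toMonoidHom)) : RK p U := by
  have := h.map_equiv e.symm
  rw [map_map] at this
  convert this
  convert (map_id U).symm
  ext x; simp

section SL2

open H64.SL2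

variable {F : Type*} [Field F] [Finite F] [Fact p.Prime] [CharP F p]

theorem rk_unitriSL : RK p (H10.unitriSL (Fin 2) F) := by
  have hmem : ∀ c : F, mk 1 c 0 1 (by ring) ∈ H10.unitriSL (Fin 2) F := fun c =>
    H10.mem_unitriSL_two.2 ⟨rfl, rfl, rfl⟩
  have hne : ∀ c : F, c ≠ 0 → mk 1 c 0 1 (by ring) ≠ (1 : SL(2, F)) := fun c hc e => by
    simp only [ent] at e
    exact hc e.2.1
  have hprod : ∀ t : F, t ≠ 2 → ∃ g : SL(2, F), tr g = t ∧ ∃ b y z : SL(2, F),
      y ∈ H10.unitriSL (Fin 2) F ∧ z ∈ H10.unitriSL (Fin 2) F ∧ y ≠ 1 ∧ z ≠ 1 ∧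
      g = y * (b * z * b⁻¹) := fun t ht =>
    ⟨mk (t - 1) (t - 2) 1 1 (by ring), by simp only [ent]; ring, mk 0 (-1) 1 0 (by ring),
      mk 1 (t - 2) 0 1 (by ring), mk 1 (-1) 0 1 (by ring), hmem _, hmem _, hne _ (sub_ne_zero.2 ht),
      hne _ (neg_ne_zero.2 one_ne_zero), by
        simp only [ent]
        refine ⟨?_, ?_, ?_, ?_⟩ <;> ring⟩
  refine ⟨fun V h1 h2 h3 h4 => ?_, fun h h1 hc => ?_⟩
  · have hS := isSylowIn_of_le (H10.unitriSylowSL (Fin 2) F p)
      (le_normalizer_of_le (le_refl (H10.unitriSL (Fin 2) F)))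
    have hVU : V ≤ H10.unitriSL (Fin 2) F :=
      hS.le_of_le_normalizer (H24.EA.isPGroup h3) h1 (hS.le.trans h2)
    refine le_antisymm hVU fun u hu => ?_
    obtain ⟨v, hv, hv1⟩ := (bot_or_exists_ne_one V).resolve_left h4
    obtain ⟨e1, e2, e3⟩ := H10.mem_unitriSL_two.1 (hVU hv)
    have hv' : v = mk 1 (v 0 1) 0 1 (by ring) := ext' e2 rfl e1 e3
    have hc : v 0 1 ≠ 0 := fun e => hv1 (ext' e2 e e1 e3)
    generalize v 0 1 = c at hv' hc
    subst hv'
    have hsq : ∀ a : F, mk 1 (a ^ 2 * c) 0 1 (by ring) ∈ V := fun a => by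
      by_cases ha : a = 0
      · convert V.one_mem
        simp only [ent, ha]; simp
      · have hd : mk a 0 0 a⁻¹ (by field_simp; ring) ∈ 𝐍(H10.unitriSL (Fin 2) F) := by
          rw [H10.normalizer_unitriSL_two]
          exact H10.mem_borelSL_two.2 rfl
        convert conj_mem_of_mem_normalizer (h2 hd) hv
        simp only [ent]
        refine ⟨?_, ?_, ?_, ?_⟩ <;> field_simp <;> ring
    obtain ⟨f1, f2, f3⟩ := H10.mem_unitriSL_two.1 hu
    have hu' : u = mk 1 (u 0 1) 0 1 (by ring) := ext' f2 rfl f1 f3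
    generalize u 0 1 = x at hu'
    subst hu'
    by_cases h2' : (2 : F) = 0
    · obtain ⟨a, ha⟩ := exists_sq_eq_of_two_eq_zero h2' (x / c)
      convert hsq a
      rw [ha]; field_simp
    · convert V.mul_mem (hsq ((x / c + 1) / 2)) (V.inv_mem (hsq ((x / c - 1) / 2)))
      simp only [ent]
      refine ⟨?_, ?_, ?_, ?_⟩ <;> field_simp <;> ring
  · have hp : h ^ p ≠ 1 := fun e =>
      h1 (H70.eq_one_of_coprime_of_pow (k := 1) hc (by rwa [pow_one]))
    by_cases ht : tr h ^ 2 = 4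
    · have hz : h ∈ center SL(2, F) := by
        have := pow_char_mem_center p ht
        exact zpowers_le.2 this (mem_zpowers_pow_iff.2 (by
          rw [Nat.gcd_comm]; exact hc))
      obtain rfl : h = -1 := (mem_center_iff'.1 hz).resolve_left h1
      have h2 : (2 : F) ≠ 0 := fun e => h1 (neg_eq_self_of_two_eq_zero e 1)
      obtain ⟨g, hg, b, y, z, hy, hz', hy1, hz1, e⟩ := hprod (-2) fun e => h2 (by
        have : (2 : F) * 2 = 0 := by linear_combination -e
        exact (mul_self_eq_zero).1 this)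
      refine ⟨-g, ⟨1, ?_⟩, (mem_center_iff.1 hz _).symm, 1, b, y, z, hy, hz', hy1, hz1, ?_⟩
      · rw [pow_one]
        exact pow_char_eq_one_of_tr_eq_two p (by rw [tr_neg, hg, neg_neg])
      · rw [one_mul, inv_one, mul_one, ← e]; simp
    · obtain ⟨g, hg, b, y, z, hy, hz, hy1, hz1, e⟩ := hprod (tr h) fun e => ht (by
        rw [e]; norm_num)
      obtain ⟨c, hc'⟩ := isConj_iff.1 (isConj_of_tr_eq (g := g) (h := h) (by rwa [hg]) hg)
      refine ⟨1, ⟨0, one_pow _⟩, Commute.one_right _, c, c * b, y, z, hy, hz, hy1, hz1, ?_⟩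
      rw [← hc', e]; group

theorem rk_SL2 {U : Subgroup SL(2, F)} (hU : IsPGroup p U) (hc : Nat.card U = Nat.card F) :
    RK p U := by
  have hS := isSylowIn_top (H10.unitriSylowSL (Fin 2) F p)
  obtain ⟨g, -, hg⟩ := hS.conj (hS.of_card_le hU le_top (by
    rw [hc]; exact H10.card_unitriSL_two.le))
  rw [← hg]
  exact rk_unitriSL.cj g

end SL2

section Sz

open H14.Sz

variable {F : Type*} [Field F] [Fintype F] {m : ℕ} [hz : SzF F m]

theorem rk_Z (S : Model X F m) : RK 2 S.Z := by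
  haveI := S.finite
  refine ⟨fun V h1 h2 h3 h4 => ?_, fun h h1 hc => ?_⟩
  · rw [S.normalizer_Z] at h1 h2
    have hVZ : V ≤ S.Z := fun v hv => S.mem_Z_of_mem_B (h1 hv) (by rw [← sq]; exact h3.2 v hv)
    refine le_antisymm hVZ fun u hu => ?_
    obtain ⟨v, hv, hv1⟩ := (bot_or_exists_ne_one V).resolve_left h4
    obtain ⟨b, rfl⟩ := S.mem_Z.1 (hVZ hv)
    obtain ⟨c, rfl⟩ := S.mem_Z.1 hu
    by_cases hc : c = 0
    · rw [hc, S.u_zero]; exact V.one_mem
    obtain ⟨k, hk⟩ := S.exists_h_conj_u_zero (b := b) fun e => hv1 (by rw [e, S.u_zero])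
    obtain ⟨l, hl⟩ := S.exists_h_conj_u_zero hc
    rw [← hl]
    refine conj_mem_of_mem_normalizer (h2 (S.h_mem_B l)) ?_
    have := conj_mem_of_mem_normalizer' (h2 (S.h_mem_B k)) hv
    rwa [← hk, show (S.h k)⁻¹ * (S.h k * S.u 0 1 * (S.h k)⁻¹) * S.h k = S.u 0 1 by group] at this
  · have hodd : Odd (orderOf h) := Nat.coprime_two_right.1 hc
    obtain ⟨t, ht, ht1, hinv⟩ : ∃ t : X, t * t = 1 ∧ t ≠ 1 ∧ t * h * t⁻¹ = h⁻¹ := by
      rcases S.mem_conj_H_or_free hodd h1 with ⟨x, hx⟩ | hf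
      · obtain ⟨t, h2, h3, h4⟩ := (S.conj x).selfCent_H.exists_involution (j := 0)
          (S.conj x).card_normalizer_H'
        exact ⟨t, h3, h4, (S.conj x).selfCent_H.conj_eq_inv h2 h3 h4 hx⟩
      · obtain ⟨t, h2, h3, h4⟩ := hf.isTorus.selfCent.exists_involution (j := 1)
          hf.isTorus.card_normalizer'
        exact ⟨t, h3, h4, hf.isTorus.selfCent.conj_eq_inv h2 h3 h4
          (mem_centralizer_singleton_iff.2 rfl)⟩
    have ht' : t⁻¹ = t := inv_eq_of_mul_eq_one_right ht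
    have hs : h * t * (h * t) = 1 := by
      rw [ht'] at hinv
      calc h * t * (h * t) = h * (t * h * t) := by group
        _ = 1 := by rw [hinv, mul_inv_cancel]
    have hs1 : h * t ≠ 1 := fun e => by
      have : h = t := by rw [← ht']; exact eq_inv_of_mul_eq_one_left e
      rw [this, H9.orderOf_eq_two_of_mul_self ht1 ht] at hodd
      exact absurd hodd (by decide)
    obtain ⟨a, ha⟩ := S.exists_conj_involution hs hs1
    obtain ⟨b, hb⟩ := S.exists_conj_involution ht ht1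
    have hu : S.u 0 1 ≠ 1 := fun e => one_ne_zero (S.u_eq_one.1 e).2
    refine ⟨1, ⟨0, one_pow _⟩, Commute.one_right _, a, b, _, _, S.u_mem_Z 1, S.u_mem_Z 1, hu, hu, ?_⟩
    rw [← ha, ← hb, mul_assoc, ht]

theorem rk_Sz (S : Model X F m) {U : Subgroup X} (hU : IsElementaryAbelian 2 U)
    (hc : Nat.card U = Fintype.card F) : RK 2 U := by
  haveI := S.finite
  obtain ⟨g, hg⟩ := S.exists_conj_U_ge (H24.EA.isPGroup hU)
  have h1 : U ≤ (S.conj g).Z := fun u hu =>
    (S.conj g).mem_Z_iff.2 ⟨hg hu, by rw [← sq]; exact hU.2 u hu⟩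
  rw [eq_of_le_of_card_ge h1 (by rw [hc, (S.conj g).card_Z])]
  exact rk_Z _

end Sz

theorem rk_dihedral [Finite X] {U : Subgroup X} (hc : Nat.card U = 2) {g : X}
    (hg : U ⊔ U ^ᶜ g = ⊤) (hO : pCore 2 X = ⊥) : RK 2 U := by
  obtain ⟨x, hxU, hx1⟩ := (bot_or_exists_ne_one U).resolve_left fun e => by
    rw [e, card_bot] at hc; exact absurd hc (by decide)
  have hx : x * x = 1 := by
    have := pow_card_eq_one' (x := (⟨x, hxU⟩ : U))
    rw [hc, sq] at this
    exact congrArg Subtype.val this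
  have hU : U = zpowers x := (eq_of_le_of_card_ge (zpowers_le.2 hxU) (by
    rw [hc, Nat.card_zpowers, H9.orderOf_eq_two_of_mul_self hx1 hx])).symm
  set y := g * x * g⁻¹ with hy
  have hyy : y * y = 1 := by
    rw [hy, show g * x * g⁻¹ * (g * x * g⁻¹) = g * (x * x) * g⁻¹ by group, hx]; simp
  have hgen : ∀ d : X, ∃ k : ℤ, d = (x * y) ^ k ∨ d = (x * y) ^ k * x := fun d => by
    rw [← H9.mem_closure_pair_iff hx hyy, show ({x, y} : Set X) = {x} ∪ {y} from rfl,
      Subgroup.closure_union, ← zpowers_eq_closure, ← zpowers_eq_closure, hy, ← cj_zpowers, ← hU, hg]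
    exact mem_top d
  have hodd : Odd (orderOf (x * y)) := by
    by_contra hev
    rw [Nat.not_odd_iff_even] at hev
    obtain ⟨c1, c2⟩ := H9.pow_half_commute hx hyy hev
    have ho := H9.orderOf_pow_half hev
    set z := (x * y) ^ (orderOf (x * y) / 2) with hz
    have hzc : ∀ d, Commute z d := fun d => by
      obtain ⟨k, rfl | rfl⟩ := hgen d
      · exact (c1.mul_right c2).zpow_right k
      · exact ((c1.mul_right c2).zpow_right k).mul_right c1
    haveI : (zpowers z).Normal := ⟨fun n hn d => by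
      obtain ⟨k, rfl⟩ := mem_zpowers_iff.1 hn
      rw [← ((hzc d).zpow_left k).eq, mul_inv_cancel_right]
      exact zpow_mem (mem_zpowers z) k⟩
    have := H1.le_pCore (H9.isPGroup_zpowers_of_mul_self (H9.mul_self_of_orderOf_two ho))
      (mem_zpowers z)
    rw [hO, mem_bot] at this
    exact H9.ne_one_of_orderOf_two ho this
  have hodd' : ∀ k : ℤ, Odd (orderOf ((x * y) ^ k)) := fun k =>
    hodd.of_dvd_nat (orderOf_dvd_of_mem_zpowers (zpow_mem (mem_zpowers _) k))
  have h2 : ∀ k : ℤ, (x * y) ^ k * (x * y) ^ k = 1 → (x * y) ^ k = 1 := fun k hk =>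
    H70.eq_one_of_coprime_of_pow (p := 2) (k := 1) (Nat.coprime_two_right.2 (hodd' k))
      (by rw [pow_one, sq, hk])
  refine ⟨fun V h1 _ h3 h4 => ?_, fun h h1 hc' => ?_⟩
  · have hN : 𝐍(U) ≤ U := fun d hd => by
      have h5 : d * x * d⁻¹ ∈ U := conj_mem_of_mem_normalizer hd hxU
      have h6 : ∀ k : ℤ, (x * y) ^ k ∈ 𝐍(U) → (x * y) ^ k = 1 := fun k hk => by
        have h7 := conj_mem_of_mem_normalizer hk hxU
        rw [H9.zpow_conj_left hx hyy] at h7
        have h8 : (x * y) ^ (2 * k) ∈ U := by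
          simpa using U.mul_mem h7 (U.inv_mem hxU)
        have h9 : (x * y) ^ (2 * k) = 1 := h2 _ (by
          have := pow_card_eq_one' (x := (⟨_, h8⟩ : U))
          rw [hc, sq] at this
          exact congrArg Subtype.val this)
        exact h2 k (by rw [← zpow_add, ← two_mul, h9])
      obtain ⟨k, rfl | rfl⟩ := hgen d
      · rw [h6 k hd]; exact U.one_mem
      · rw [h6 k (by simpa using (𝐍(U)).mul_mem hd (le_normalizer ((U.inv_mem hxU)))), one_mul]
        exact hxU
    refine eq_of_le_of_card_ge (h1.trans hN) ?_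
    rw [hc]
    exact (one_lt_card_iff_ne_bot V).2 h4
  · have hodd2 : Odd (orderOf h) := Nat.coprime_two_right.1 hc'
    obtain ⟨k, rfl | rfl⟩ := hgen h
    · have h3 := H9.zpow_mul_left_mul_self hx hyy k
      obtain ⟨c, hc2⟩ := isConj_iff.1 (H9.isConj_of_odd hx h3 (by
        rw [← mul_assoc, ← H9.orderOf_conj' x, show x⁻¹ * (x * (x * y) ^ k * x) * x =
          (x * y) ^ k * (x * x) by group, hx, mul_one]
        exact hodd2))
      refine ⟨1, ⟨0, one_pow _⟩, Commute.one_right _, c, 1, x, x, hxU, hxU, hx1, hx1, ?_⟩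
      rw [hc2, one_mul, inv_one, mul_one, mul_one, mul_assoc, hx, mul_one]
    · rw [H9.orderOf_eq_two_of_mul_self h1 (H9.zpow_mul_left_mul_self hx hyy k)] at hodd2
      exact absurd hodd2 (by decide)

section FrakL

variable {G : Type*} [Group G] [Finite G] [Fact p.Prime] {M L : Subgroup G}

theorem ym_of_isInFrakL (h : IsInFrakL p M L) : YM 𝐘(p, M) (L ⊓ 𝐍(𝐘(p, M))) L :=
  ⟨le_inf h.1 (le_normalizer_of_le le_rfl), h.2.2.2.2.2.1.1, h.2.2.2.2.2.1.2,
    (normalClosure_subgroupOf_eq_top_iff h.1).1 h.2.2.2.1.1⟩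

theorem rk_of_isInFrakL (h : IsInFrakL p M L) :
    RK p ((𝐘(p, M).subgroupOf L).map (QuotientGroup.mk' (pCore p L))) := by
  have hym := ym_of_isInFrakL h
  have hYp := Y_isPGroup (p := p) M
  have hea : IsElementaryAbelian p ((𝐘(p, M).subgroupOf L).map (QuotientGroup.mk' (pCore p L))) :=
    ea_map _ (H24.EA.subgroupOf (Y_ea M) L)
  have hcase := h.2.2.2.2.2.2
  have hc : (𝐘(p, M) ⊓ pCoreOf p L).relIndex 𝐘(p, M) =
      Nat.card ((𝐘(p, M).subgroupOf L).map (QuotientGroup.mk' (pCore p L))) := by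
    rw [← relIndex_ker, QuotientGroup.ker_mk', ← H70.pCoreOf_subgroupOf,
      relIndex_subgroupOf hym.YL, inf_relIndex_left]
  rw [hc] at hcase
  have hne : (𝐘(p, M).subgroupOf L).map (QuotientGroup.mk' (pCore p L)) ≠ ⊥ := fun e => by
    rw [Subgroup.map_eq_bot_iff, QuotientGroup.ker_mk', ← H70.pCoreOf_subgroupOf,
      subgroupOf_le_subgroupOf_iff hym.YL] at e
    exact hym.not_le_pCoreOf hYp e
  obtain ⟨g, hg, hg'⟩ := SetLike.exists_of_lt hym.lt
  have hgen : (𝐘(p, M).subgroupOf L).map (QuotientGroup.mk' (pCore p L)) ⊔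
      ((𝐘(p, M).subgroupOf L).map (QuotientGroup.mk' (pCore p L))) ^ᶜ
        (QuotientGroup.mk' (pCore p L) ⟨g, hg⟩) = ⊤ := by
    rw [← map_cj, ← Subgroup.map_sup, subgroupOf_cj, ← subgroupOf_sup hym.YL
      (cj_le_of_mem hym.YL hg), hym.sup_cj hg hg', subgroupOf_self]
    exact map_top_of_surjective _ (QuotientGroup.mk'_surjective _)
  generalize (𝐘(p, M).subgroupOf L).map (QuotientGroup.mk' (pCore p L)) = U at *
  have hUp := H24.EA.isPGroup hea
  obtain ⟨k, hk⟩ := IsPGroup.iff_card.1 hUp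
  have hk0 : k ≠ 0 := fun e => hne (by rw [e, pow_zero] at hk; exact card_eq_one.1 hk)
  rcases hcase with ⟨F, _, _, h1, ⟨e⟩⟩ | ⟨rfl, F, _, _, m, h1, h2, ⟨e⟩⟩ | ⟨rfl, r, h1, h2, ⟨e⟩⟩
  · haveI : CharP F p := charP_of_card_eq_prime_pow (h1.trans hk)
    refine RK.of_map_equiv e (rk_SL2 (hUp.map _) ?_)
    rw [card_map_of_injective e.injective, Nat.card_eq_fintype_card (α := F), h1]
  · by_cases hm : m = 0
    · refine rk_dihedral ?_ hgen H1.pCore_quotient_pCore
      rw [← h2, h1, hm]; rfl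
    · haveI : H14.Sz.SzF F m := ⟨Nat.one_le_iff_ne_zero.2 hm, h1⟩
      exact rk_Sz ((H14.Sz.lieModel F m).comap e) hea h2.symm
  · refine rk_dihedral ?_ hgen H1.pCore_quotient_pCore
    have h3 : Nat.card U ∣ 2 * r := by
      rw [← DihedralGroup.nat_card, ← Nat.card_congr e.toEquiv]
      exact card_subgroup_dvd_card U
    obtain ⟨j, rfl⟩ := Nat.exists_eq_succ_of_ne_zero hk0
    rw [hk, pow_succ'] at h3 ⊢
    rcases j with _ | j
    · rfl
    · exact absurd ((Nat.prime_dvd_prime_iff_eq Nat.prime_two h1).1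
        ((dvd_pow_self 2 (Nat.succ_ne_zero j)).trans (Nat.dvd_of_mul_dvd_mul_left two_pos h3))).symm h2

end FrakL

end H69
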